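import Cfsg.Agent.H886.TW.Trace

/-!
# Overgroups of `(SL ⊗ SL).2` in odd characteristic: conclusion (helper886)
-/

set_option autoImplicit false
set_option linter.unusedSectionVars false

namespace Cfsg.Agent.H886.TW

open Matrix Cfsg.Agent.H873 Cfsg.Agent.H872
open scoped Kronecker

variable {α : Type} [Fintype α] [DecidableEq α] {F : Type*} [Field F]
variable {M : Subgroup (GL (α × α) F)}

/-- A Kronecker product minus one squares to zero only if a factor is scalar. -/
theorem scalar_of_sq [Nonempty α] (h2 : (2 : F) ≠ 0) (A B : GL α F)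
    (hsq : ((A : Matrix α α F) ⊗ₖ (B : Matrix α α F) - 1) *
      ((A : Matrix α α F) ⊗ₖ (B : Matrix α α F) - 1) = 0) :
    (∃ c : F, (A : Matrix α α F) = c • (1 : Matrix α α F)) ∨
      ∃ c : F, (B : Matrix α α F) = c • (1 : Matrix α α F) := by
  set a : Matrix α α F := (A : Matrix α α F)
  set b : Matrix α α F := (B : Matrix α α F)
  by_cases hA : ∃ c : F, a = c • (1 : Matrix α α F)
  · exact Or.inl hA
  right
  have hent : ∀ i j k l : α, (a * a) i j * (b * b) k l - 2 * (a i j * b k l) +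
      (1 : Matrix α α F) i j * (1 : Matrix α α F) k l = 0 := by
    intro i j k l
    have h1 : (a * a) ⊗ₖ (b * b) - (2 : F) • (a ⊗ₖ b) + (1 : Matrix α α F) ⊗ₖ (1 : Matrix α α F) = 0 := by
      rw [sub_mul, mul_sub, mul_one, one_mul, ← mul_kronecker_mul] at hsq
      rw [one_kronecker_one, two_smul, ← hsq]
      abel
    have h3 := congrFun (congrFun h1 (i, k)) (j, l)
    simp only [Matrix.sub_apply, Matrix.add_apply, kroneckerMap_apply, Matrix.smul_apply,
      smul_eq_mul, Matrix.zero_apply] at h3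
    exact h3
  -- no linear relation between `a` and `1`
  have hrel : ∀ x y : F, (∀ i j, x * a i j = y * (1 : Matrix α α F) i j) → x = 0 := by
    intro x y hxy
    by_contra hx
    apply hA
    refine ⟨x⁻¹ * y, ?_⟩
    ext i j
    rw [Matrix.smul_apply, smul_eq_mul, mul_assoc, ← hxy, ← mul_assoc, inv_mul_cancel₀ hx, one_mul]
  obtain ⟨k₀⟩ := ‹Nonempty α›
  have h1 : ∀ k l k' l', (b * b) k l * b k' l' = (b * b) k' l' * b k l := by
    intro k l k' l'
    have h3 := hrel (2 * ((b * b) k l * b k' l' - (b * b) k' l' * b k l))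
      ((b * b) k l * (1 : Matrix α α F) k' l' - (b * b) k' l' * (1 : Matrix α α F) k l) (by
        intro i j
        have e1 := hent i j k l
        have e2 := hent i j k' l'
        linear_combination (b * b) k' l' * e1 - (b * b) k l * e2)
    have h4 := (mul_eq_zero.1 h3).resolve_left h2
    exact sub_eq_zero.1 h4
  have h1' : ∀ k l, (b * b) k l = (b * b) k₀ k₀ * (1 : Matrix α α F) k l := by
    intro k l
    have e1 := hent k₀ k₀ k l
    have e2 := hent k₀ k₀ k₀ k₀
    have e3 := h1 k l k₀ k₀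
    rw [one_apply_eq] at e1 e2
    linear_combination -(b * b) k₀ k₀ * e1 + (b * b) k l * e2 + 2 * a k₀ k₀ * e3
  have hb0 : (b * b) k₀ k₀ ≠ 0 := by
    intro h0
    have h3 : b * b = 0 := by
      ext k l
      rw [h1', h0, zero_mul, Matrix.zero_apply]
    have h4 : b * ((B⁻¹ : GL α F) : Matrix α α F) = 1 := by
      rw [← Units.val_mul, mul_inv_cancel, Units.val_one]
    have h5 : b = 0 := by
      calc b = b * (b * ((B⁻¹ : GL α F) : Matrix α α F)) := by rw [h4, mul_one]
        _ = 0 := by rw [← mul_assoc, h3, zero_mul]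
    rw [h5, zero_mul] at h4
    have := congrFun (congrFun h4 k₀) k₀
    simp at this
  refine ⟨b k₀ k₀, ?_⟩
  ext k l
  have h3 := h1 k₀ k₀ k l
  rw [h1' k l] at h3
  have h4 : (b * b) k₀ k₀ * (b k l - b k₀ k₀ * (1 : Matrix α α F) k l) = 0 := by
    linear_combination h3
  have h5 := (mul_eq_zero.1 h4).resolve_left hb0
  rw [Matrix.smul_apply, smul_eq_mul]
  exact sub_eq_zero.1 h5

theorem conj_rt_sub_one (g : GL (α × α) F) (w ψ : α → F) (h : ψ ⬝ᵥ w = 0) :
    ((g * rt w ψ h * g⁻¹ : GL (α × α) F) : Matrix (α × α) (α × α) F) - 1 =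
      rho g ((1 : Matrix α α F) ⊗ₖ vecMulVec w ψ) := by
  rw [Units.val_mul, Units.val_mul, coe_rt, mul_add, add_mul, mul_one, ← Units.val_mul,
    mul_inv_cancel, Units.val_one, rho_apply]
  abel

theorem rho_mul {κ : Type} [Fintype κ] [DecidableEq κ] (g : GL κ F) (x y : Matrix κ κ F) :
    rho g x * rho g y = rho g (x * y) := by
  rw [rho_apply, rho_apply, rho_apply]
  have h6 : ((g⁻¹ : GL κ F) : Matrix κ κ F) * (g : Matrix κ κ F) = 1 := by
    rw [← Units.val_mul, inv_mul_cancel, Units.val_one]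
  calc _ = (g : Matrix κ κ F) * x * (((g⁻¹ : GL κ F) : Matrix κ κ F) * (g : Matrix κ κ F)) * y *
        ((g⁻¹ : GL κ F) : Matrix κ κ F) := by simp only [mul_assoc]
    _ = _ := by rw [h6, mul_one]; simp only [mul_assoc]

theorem rho_rt_sq (g : GL (α × α) F) (w ψ : α → F) (h : ψ ⬝ᵥ w = 0) :
    rho g ((1 : Matrix α α F) ⊗ₖ vecMulVec w ψ) * rho g ((1 : Matrix α α F) ⊗ₖ vecMulVec w ψ) = 0 := by
  rw [rho_mul, ← mul_kronecker_mul, vecMulVec_mul_vecMulVec, h, zero_smul, vecMulVec_zero,
    kronecker_zero, map_zero]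

theorem clo_of_odd [Finite F] (c : Ctx M) (h2 : (2 : F) ≠ 0) : Clo M := by
  have h3 := c.three
  have : Nonempty α := Fintype.card_pos_iff.1 (by omega)
  intro g hg w ψ h hw hψ hx
  have hran : g * rt w ψ h * g⁻¹ ∈ (kr (α := α) (β := α) (F := F)).range := by
    rcases hx with hx | hx
    · exact hx
    obtain ⟨p, hchar⟩ := CharP.exists F
    have hp : p.Prime := CharP.char_is_prime F p
    have hpo : Odd p := by
      rcases hp.eq_two_or_odd' with h4 | h4
      · exfalso
        apply h2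
        have := CharP.cast_eq_zero F p
        rw [h4] at this
        exact_mod_cast this
      · exact h4
    set x := g * rt w ψ h * g⁻¹ with hxdef
    have hxp : x ^ p = 1 := by
      rw [hxdef, conj_pow, rt_pow_eq_one h, mul_one, mul_inv_cancel]
    have hxx : x * x ∈ (kr (α := α) (β := α) (F := F)).range := by
      have e : x * x = (x * sw) * (sw * (x * sw) * sw) := by
        calc x * x = x * (sw * sw) * x * (sw * sw) := by rw [sw_mul_self, mul_one, mul_one]
          _ = _ := by simp only [mul_assoc]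
      rw [e]
      exact Subgroup.mul_mem _ hx (sw_mem_conj hx)
    obtain ⟨k, hk⟩ := hpo
    have e : x = (x * x) ^ (k + 1) := by
      rw [← pow_two, ← pow_mul, show 2 * (k + 1) = p + 1 by omega, pow_succ, hxp, one_mul]
    rw [e]
    exact Subgroup.pow_mem _ hxx _
  obtain ⟨⟨A, B⟩, hAB⟩ := hran
  have hsq := rho_rt_sq g w ψ h
  rw [← conj_rt_sub_one g w ψ h, ← hAB, coe_kr] at hsq
  rcases scalar_of_sq h2 A B hsq with ⟨t, ht⟩ | ⟨t, ht⟩
  · exact isRoot_of_scalar_left h hw hψ hAB.symm ht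
  · exact isRoot_of_scalar_right h hw hψ hAB.symm ht

/-- A matrix `a ⊗ 1 + 1 ⊗ b` of square zero. -/
theorem scalar_of_sum_sq (h2 : (2 : F) ≠ 0) {a b : Matrix α α F}
    (hsq : (a ⊗ₖ (1 : Matrix α α F) + (1 : Matrix α α F) ⊗ₖ b) *
      (a ⊗ₖ (1 : Matrix α α F) + (1 : Matrix α α F) ⊗ₖ b) = 0) :
    (∃ c : F, a = c • (1 : Matrix α α F)) ∨ ∃ c : F, b = c • (1 : Matrix α α F) := by
  have hent : ∀ i j k l : α, (a * a) i j * (1 : Matrix α α F) k l + 2 * (a i j * b k l) +
      (1 : Matrix α α F) i j * (b * b) k l = 0 := by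
    intro i j k l
    have h1 : (a * a) ⊗ₖ (1 : Matrix α α F) + (2 : F) • (a ⊗ₖ b) +
        (1 : Matrix α α F) ⊗ₖ (b * b) = 0 := by
      rw [add_mul, mul_add, mul_add, ← mul_kronecker_mul, ← mul_kronecker_mul, ← mul_kronecker_mul,
        ← mul_kronecker_mul] at hsq
      simp only [one_mul, mul_one] at hsq
      rw [two_smul, ← hsq]
      abel
    have h3 := congrFun (congrFun h1 (i, k)) (j, l)
    simp only [Matrix.add_apply, kroneckerMap_apply, Matrix.smul_apply,
      smul_eq_mul, Matrix.zero_apply] at h3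
    exact h3
  by_cases hb : ∃ c : F, b = c • (1 : Matrix α α F)
  · exact Or.inr hb
  left
  by_cases hoff : ∃ k l, k ≠ l ∧ b k l ≠ 0
  · obtain ⟨k, l, hkl, hbkl⟩ := hoff
    refine ⟨-((b * b) k l) * (2 * b k l)⁻¹, ?_⟩
    ext i j
    have h1 := hent i j k l
    rw [one_apply_ne hkl, mul_zero, zero_add] at h1
    rw [Matrix.smul_apply, smul_eq_mul]
    field_simp
    linear_combination h1
  · push Not at hoff
    have hdiag : ∃ k l, b k k ≠ b l l := by
      by_contra hcon
      push Not at hcon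
      apply hb
      by_cases hne : Nonempty α
      · obtain ⟨k₀⟩ := hne
        refine ⟨b k₀ k₀, ?_⟩
        ext k l
        rw [Matrix.smul_apply, smul_eq_mul]
        by_cases hkl : k = l
        · subst hkl
          rw [one_apply_eq, mul_one, hcon k k₀]
        · rw [one_apply_ne hkl, mul_zero, hoff k l hkl]
      · exact ⟨0, by ext k; exact absurd ⟨k⟩ hne⟩
    obtain ⟨k, l, hkl⟩ := hdiag
    have hd : b k k - b l l ≠ 0 := sub_ne_zero.2 hkl
    refine ⟨-((b * b) k k - (b * b) l l) * (2 * (b k k - b l l))⁻¹, ?_⟩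
    ext i j
    have h1 := hent i j k k
    have h3 := hent i j l l
    rw [one_apply_eq] at h1 h3
    rw [Matrix.smul_apply, smul_eq_mul]
    field_simp
    linear_combination h1 - h3

theorem mem_twr_of_sub_one {x : GL (α × α) F} {b : Matrix α α F} (hb : b * b = 0)
    (h : (x : Matrix (α × α) (α × α) F) - 1 = (1 : Matrix α α F) ⊗ₖ b ∨
      (x : Matrix (α × α) (α × α) F) - 1 = b ⊗ₖ (1 : Matrix α α F)) :
    x ∈ (twr : Subgroup (GL (α × α) F)) := by
  let B : GL α F := ⟨1 + b, 1 - b, by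
    rw [add_mul, mul_sub, mul_sub, hb]; simp, by
    rw [sub_mul, mul_add, mul_add, hb]; simp⟩
  have hB : (B : Matrix α α F) = 1 + b := rfl
  rcases h with h | h
  · have : x = kr ((1 : GL α F), B) := by
      apply Units.ext
      rw [coe_kr, hB, Units.val_one, kronecker_add, one_kronecker_one, ← h]
      abel
    rw [this]
    exact kr_mem_twr _
  · have : x = kr (B, (1 : GL α F)) := by
      apply Units.ext
      rw [coe_kr, hB, Units.val_one, add_kronecker, one_kronecker_one, ← h]
      abel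
    rw [this]
    exact kr_mem_twr _

/-- **Odd characteristic.** -/
theorem le_twr_of_odd [Finite F] (c : Ctx M) (h2 : (2 : F) ≠ 0) :
    M ≤ (twr : Subgroup (GL (α × α) F)) := by
  have _ : Fintype F := Fintype.ofFinite F
  have h3 := c.three
  have hC := clo_of_odd c h2
  have hF : 2 < Fintype.card F := by
    have h4 : 1 < Fintype.card F := Fintype.one_lt_card
    by_contra hcon
    have h5 : Fintype.card F = 2 := by omega
    apply h2
    have := FiniteField.cast_card_eq_zero F
    rw [h5] at this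
    exact_mod_cast this
  have : Nonempty α := Fintype.card_pos_iff.1 (by omega)
  obtain ⟨i, j, hij⟩ := Fintype.exists_pair_of_one_lt_card (by omega : 1 < Fintype.card α)
  intro g hg
  let w : α → F := Pi.single i 1
  let ψ : α → F := Pi.single j 1
  have h : ψ ⬝ᵥ w = 0 := by simp [w, ψ, hij.symm]
  have hw : w ≠ 0 := by simp [w]
  have hψ : ψ ≠ 0 := by simp [ψ]
  have hroot : IsRoot (rt w ψ h : GL (α × α) F) := ⟨w, ψ, h, hw, hψ, Or.inl rfl⟩
  refine hC.mem_twr c hroot hg ?_
  -- the matrix `1 ⊗ w ψ` is in the image of `ptr`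
  have htr : trace (vecMulVec w ψ) = 0 := by
    rw [trace_vecMulVec, dotProduct_comm, h]
  have himg : ptr ((Matrix.single i i (1 : F)) ⊗ₖ vecMulVec w ψ) =
      (1 : Matrix α α F) ⊗ₖ vecMulVec w ψ := by
    rw [ptr_kron, htr, trace_single_eq_same, zero_smul, one_smul, zero_add]
  have hval := conj_rt_sub_one g w ψ h
  have hsq := rho_rt_sq g w ψ h
  rw [← himg, rho_ptr hF c hC hg] at hval hsq
  obtain ⟨a, b, hab⟩ := ptr_mem (rho g ((Matrix.single i i (1 : F)) ⊗ₖ vecMulVec w ψ))
  rw [hab] at hval hsq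
  -- absorb scalars
  have key : ∀ x : Matrix α α F, (∃ e : Matrix (α × α) (α × α) F, e * e = 0 ∧
      (e = (1 : Matrix α α F) ⊗ₖ x ∨ e = x ⊗ₖ (1 : Matrix α α F))) → x * x = 0 := by
    rintro x ⟨e, he, rfl | rfl⟩
    · rw [← mul_kronecker_mul, one_mul] at he
      ext k l
      have := congrFun (congrFun he (i, k)) (i, l)
      rw [kroneckerMap_apply, one_apply_eq, one_mul] at this
      exact this
    · rw [← mul_kronecker_mul, one_mul] at he
      ext k l
      have := congrFun (congrFun he (k, i)) (l, i)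
      rw [kroneckerMap_apply, one_apply_eq, mul_one] at this
      exact this
  rcases scalar_of_sum_sq h2 hsq with ⟨t, ht⟩ | ⟨t, ht⟩
  · have e : a ⊗ₖ (1 : Matrix α α F) + (1 : Matrix α α F) ⊗ₖ b =
        (1 : Matrix α α F) ⊗ₖ (t • (1 : Matrix α α F) + b) := by
      rw [ht, kronecker_add, smul_kronecker, kronecker_smul]
    rw [e] at hval hsq
    exact mem_twr_of_sub_one (key _ ⟨_, hsq, Or.inl rfl⟩) (Or.inl hval)
  · have e : a ⊗ₖ (1 : Matrix α α F) + (1 : Matrix α α F) ⊗ₖ b =
        (a + t • (1 : Matrix α α F)) ⊗ₖ (1 : Matrix α α F) := by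
      rw [ht, add_kronecker, smul_kronecker, kronecker_smul]
    rw [e] at hval hsq
    exact mem_twr_of_sub_one (key _ ⟨_, hsq, Or.inr rfl⟩) (Or.inr hval)

end Cfsg.Agent.H886.TW
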