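import Cfsg.Agent.H886.TW.Sw

/-!
# Root elements of the overgroups of `(SL ⊗ SL).2` (helper886)
-/

set_option autoImplicit false
set_option linter.unusedSectionVars false

namespace Cfsg.Agent.H886.TW

open Matrix Cfsg.Agent.H873 Cfsg.Agent.H872
open scoped Kronecker

variable {α : Type} [Fintype α] [DecidableEq α] {F : Type*} [Field F]

/-- Left root elements. -/
def lt (w ψ : α → F) (h : ψ ⬝ᵥ w = 0) : GL (α × α) F := kr (tv w ψ h, (1 : GL α F))

theorem sw_rt_sw (w ψ : α → F) (h : ψ ⬝ᵥ w = 0) : sw * rt w ψ h * sw = lt w ψ h := by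
  rw [rt, sw_kr_sw, lt]

theorem sw_lt_sw (w ψ : α → F) (h : ψ ⬝ᵥ w = 0) : sw * lt w ψ h * sw = rt w ψ h := by
  rw [rt, lt, sw_kr_sw]

/-- Root elements. -/
def IsRoot (x : GL (α × α) F) : Prop :=
  ∃ (w ψ : α → F) (h : ψ ⬝ᵥ w = 0), w ≠ 0 ∧ ψ ≠ 0 ∧ (x = rt w ψ h ∨ x = lt w ψ h)

theorem IsRoot.mem_range {x : GL (α × α) F} (h : IsRoot x) :
    x ∈ (kr (α := α) (β := α) (F := F)).range := by
  obtain ⟨w, ψ, h0, -, -, rfl | rfl⟩ := h
  · exact ⟨_, rfl⟩
  · exact ⟨_, rfl⟩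

/-- An overgroup of `(SL ⊗ SL).2` (the swap up to scalars), not containing `SL`. -/
structure Ctx (M : Subgroup (GL (α × α) F)) : Prop where
  sl : ∀ A B : GL α F, (A : Matrix α α F).det = 1 → (B : Matrix α α F).det = 1 → kr (A, B) ∈ M
  sws : ∃ k₀ ∈ (kr (α := α) (β := α) (F := F)).range, (∀ x, k₀ * x = x * k₀) ∧ k₀ * sw ∈ M
  all : AllRt M
  three : 3 ≤ Fintype.card α

variable {M : Subgroup (GL (α × α) F)}

theorem Ctx.swc (c : Ctx M) {g : GL (α × α) F} (hg : g ∈ M) : sw * g * sw ∈ M := by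
  obtain ⟨k₀, -, h1, h2⟩ := c.sws
  have h3 := M.mul_mem (M.mul_mem h2 hg) (M.inv_mem h2)
  have e : k₀ * sw * g * (k₀ * sw)⁻¹ = sw * g * sw := by
    rw [_root_.mul_inv_rev, sw_inv]
    calc k₀ * sw * g * (sw * k₀⁻¹) = k₀ * (sw * g * sw) * k₀⁻¹ := by simp only [mul_assoc]
      _ = sw * g * sw := by rw [h1, mul_assoc, mul_inv_cancel, mul_one]
  rwa [e] at h3

theorem Ctx.rt_mem (c : Ctx M) {w ψ : α → F} (h : ψ ⬝ᵥ w = 0) : rt w ψ h ∈ M :=
  kr_one_tv_mem c.sl h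

theorem Ctx.lt_mem (c : Ctx M) {w ψ : α → F} (h : ψ ⬝ᵥ w = 0) : lt w ψ h ∈ M := by
  rw [← sw_rt_sw]
  exact c.swc (c.rt_mem h)

theorem Ctx.root_mem (c : Ctx M) {x : GL (α × α) F} (h : IsRoot x) : x ∈ M := by
  obtain ⟨w, ψ, h0, -, -, rfl | rfl⟩ := h
  · exact c.rt_mem h0
  · exact c.lt_mem h0

/-- The stabiliser of a column. -/
theorem Ctx.mem_range_of_col (c : Ctx M) {w : α → F} (hw : w ≠ 0) {g : GL (α × α) F} (hg : g ∈ M)
    (hst : ∀ u, ∃ u', (g : Matrix (α × α) (α × α) F) *ᵥ ten u w = ten u' w) :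
    g ∈ (kr (α := α) (β := α) (F := F)).range := by
  have h3 := c.three
  obtain ⟨x, hx⟩ := mem_range_kr_of_stab c.sl (by omega) (Or.inl h3) c.all hw hg hst
  exact ⟨x, hx⟩

/-- Conjugating a right root element to a right root element. -/
theorem Ctx.mem_range_of_conj (c : Ctx M) {w ψ w' ψ' : α → F} {h : ψ ⬝ᵥ w = 0}
    {h' : ψ' ⬝ᵥ w' = 0} (hw : w ≠ 0) (hψ : ψ ≠ 0) (hw' : w' ≠ 0) {g : GL (α × α) F} (hg : g ∈ M)
    (e : g * rt w ψ h * g⁻¹ = rt w' ψ' h') : g ∈ (kr (α := α) (β := α) (F := F)).range := by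
  have h3 := c.three
  obtain ⟨y, hy⟩ := exists_dot_one hψ
  have hgw : ∀ u, ∃ u', (g : Matrix (α × α) (α × α) F) *ᵥ ten u w = ten u' w' := by
    intro u
    have h1 : g * rt w ψ h = rt w' ψ' h' * g := by rw [← e]; group
    have h2 := congrArg (fun N : GL (α × α) F => (N : Matrix (α × α) (α × α) F) *ᵥ ten u y) h1
    simp only [Units.val_mul, ← mulVec_mulVec, rt_mulVec, mulVec_add, rc_ten, hy,
      one_smul] at h2
    exact ⟨_, add_left_cancel h2⟩
  obtain ⟨B', hB', hB'w⟩ := H905.exists_sl_vec (F := F) hw' hw (by omega)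
  rw [H905.mem_sl_iff] at hB'
  have hk : kr ((1 : GL α F), B') ∈ M := c.sl _ _ (by simp) hB'
  obtain ⟨x, hx⟩ := c.mem_range_of_col hw (g := kr ((1 : GL α F), B') * g)
    (M.mul_mem hk hg) (fun u => by
      obtain ⟨u', hu'⟩ := hgw u
      refine ⟨u', ?_⟩
      rw [Units.val_mul, ← mulVec_mulVec, hu', kr_mulVec_ten, hB'w]
      simp)
  refine ⟨((1 : GL α F), B')⁻¹ * x, ?_⟩
  rw [map_mul, map_inv, hx]
  group

theorem mem_twr_of_sw_mul {g : GL (α × α) F}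
    (h : sw * g ∈ (kr (α := α) (β := α) (F := F)).range) : g ∈ (twr : Subgroup (GL (α × α) F)) := by
  have h1 := (twr : Subgroup (GL (α × α) F)).mul_mem sw_mem_twr (range_le_twr h)
  rwa [← mul_assoc, sw_mul_self, one_mul] at h1

/-- Conjugating a root element to a root element. -/
theorem Ctx.mem_twr_of_conj (c : Ctx M) {x y : GL (α × α) F} (hx : IsRoot x) (hy : IsRoot y)
    {g : GL (α × α) F} (hg : g ∈ M) (e : g * x * g⁻¹ = y) :
    g ∈ (twr : Subgroup (GL (α × α) F)) := by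
  obtain ⟨k₀, hk₀, hcen, hks⟩ := c.sws
  -- reduction to right root elements
  have key : ∀ (w ψ : α → F) (h : ψ ⬝ᵥ w = 0) (y g : GL (α × α) F), w ≠ 0 → ψ ≠ 0 → IsRoot y →
      g ∈ M → g * rt w ψ h * g⁻¹ = y → g ∈ (twr : Subgroup (GL (α × α) F)) := by
    intro w ψ h y g hw hψ hy hg e
    obtain ⟨w', ψ', h', hw', hψ', rfl | rfl⟩ := hy
    · exact range_le_twr (c.mem_range_of_conj hw hψ hw' hg e)
    · have h1 : (k₀ * sw * g) * rt w ψ h * (k₀ * sw * g)⁻¹ = rt w' ψ' h' := by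
        rw [← sw_lt_sw w' ψ' h', ← e]
        have e1 : (k₀ * sw * g)⁻¹ = g⁻¹ * sw * k₀⁻¹ := by
          rw [_root_.mul_inv_rev, _root_.mul_inv_rev, sw_inv, mul_assoc]
        rw [e1]
        calc k₀ * sw * g * rt w ψ h * (g⁻¹ * sw * k₀⁻¹)
            = k₀ * (sw * (g * rt w ψ h * g⁻¹) * sw) * k₀⁻¹ := by simp only [mul_assoc]
          _ = _ := by rw [hcen, mul_assoc, mul_inv_cancel, mul_one]
      have h2 := c.mem_range_of_conj hw hψ hw' (M.mul_mem hks hg) h1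
      apply mem_twr_of_sw_mul
      have h3 := Subgroup.mul_mem _ (Subgroup.inv_mem _ hk₀) h2
      rwa [mul_assoc k₀, ← mul_assoc k₀⁻¹, inv_mul_cancel, one_mul] at h3
  obtain ⟨w, ψ, h, hw, hψ, rfl | rfl⟩ := hx
  · exact key w ψ h y g hw hψ hy hg e
  · have h1 : (g * (k₀ * sw)) * rt w ψ h * (g * (k₀ * sw))⁻¹ = y := by
      rw [← e, ← sw_rt_sw]
      have e1 : (g * (k₀ * sw))⁻¹ = sw * k₀⁻¹ * g⁻¹ := by
        rw [_root_.mul_inv_rev, _root_.mul_inv_rev, sw_inv]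
      rw [e1]
      calc g * (k₀ * sw) * rt w ψ h * (sw * k₀⁻¹ * g⁻¹)
          = g * (k₀ * (sw * rt w ψ h * sw) * k₀⁻¹) * g⁻¹ := by simp only [mul_assoc]
        _ = _ := by rw [hcen (sw * rt w ψ h * sw), mul_assoc (sw * rt w ψ h * sw),
                      mul_inv_cancel, mul_one]
    have h2 := key w ψ h y _ hw hψ hy (M.mul_mem hg hks) h1
    have h3 := (twr : Subgroup (GL (α × α) F)).mul_mem (range_le_twr hk₀) sw_mem_twr
    have h4 := Subgroup.mul_mem _ h2 (Subgroup.inv_mem _ h3)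
    rwa [mul_assoc, mul_inv_cancel, mul_one] at h4

/-- The property used below: conjugates of root elements in `twr` are root elements. -/
def Clo (M : Subgroup (GL (α × α) F)) : Prop :=
  ∀ g ∈ M, ∀ (w ψ : α → F) (h : ψ ⬝ᵥ w = 0), w ≠ 0 → ψ ≠ 0 →
    g * rt w ψ h * g⁻¹ ∈ (twr : Subgroup (GL (α × α) F)) → IsRoot (g * rt w ψ h * g⁻¹)

theorem Clo.root (hC : Clo M) (c : Ctx M) {x : GL (α × α) F} (hx : IsRoot x) {g : GL (α × α) F}
    (hg : g ∈ M) (h : g * x * g⁻¹ ∈ (twr : Subgroup (GL (α × α) F))) : IsRoot (g * x * g⁻¹) := by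
  obtain ⟨w, ψ, h0, hw, hψ, rfl | rfl⟩ := hx
  · exact hC g hg w ψ h0 hw hψ h
  · obtain ⟨k₀, hk₀, hcen, hks⟩ := c.sws
    have e : (g * (k₀ * sw)) * rt w ψ h0 * (g * (k₀ * sw))⁻¹ = g * lt w ψ h0 * g⁻¹ := by
      rw [← sw_rt_sw]
      have e1 : (g * (k₀ * sw))⁻¹ = sw * k₀⁻¹ * g⁻¹ := by
        rw [_root_.mul_inv_rev, _root_.mul_inv_rev, sw_inv]
      rw [e1]
      calc g * (k₀ * sw) * rt w ψ h0 * (sw * k₀⁻¹ * g⁻¹)
          = g * (k₀ * (sw * rt w ψ h0 * sw) * k₀⁻¹) * g⁻¹ := by simp only [mul_assoc]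
        _ = _ := by rw [hcen (sw * rt w ψ h0 * sw), mul_assoc (sw * rt w ψ h0 * sw),
                      mul_inv_cancel, mul_one]
    have h1 := hC (g * (k₀ * sw)) (M.mul_mem hg hks) w ψ h0 hw hψ (by rw [e]; exact h)
    rwa [e] at h1

/-- **TI property.** -/
theorem Clo.mem_twr (hC : Clo M) (c : Ctx M) {x : GL (α × α) F} (hx : IsRoot x)
    {g : GL (α × α) F} (hg : g ∈ M) (h : g * x * g⁻¹ ∈ (twr : Subgroup (GL (α × α) F))) :
    g ∈ (twr : Subgroup (GL (α × α) F)) :=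
  c.mem_twr_of_conj hx (hC.root c hx hg h) hg rfl

/-- A conjugate of a root element of the form `1 ⊗ B`. -/
theorem isRoot_of_one_kr [Nonempty α] {w ψ : α → F} (h : ψ ⬝ᵥ w = 0) (hw : w ≠ 0) (hψ : ψ ≠ 0)
    {g : GL (α × α) F} {B : GL α F} (hg : g * rt w ψ h * g⁻¹ = kr ((1 : GL α F), B)) :
    IsRoot (g * rt w ψ h * g⁻¹) := by
  have hα : 0 < Fintype.card α := Fintype.card_pos
  have h1 := finrank_fixS_conj g (rt w ψ h)
  have h2 := finrank_fixS_rt (α := α) h hw hψ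
  have h3 := finrank_fixS_one_kr (α := α) B
  rw [← hg, h1] at h3
  have h4 : Fintype.card α ≤ Module.finrank F (fixS B) + 1 := by
    have h5 : Fintype.card α * (Module.finrank F (fixS B) + 1) =
        Fintype.card α * Fintype.card α := by
      rw [mul_add, mul_one, ← h3, h2]
    exact (Nat.eq_of_mul_eq_mul_left hα h5).ge
  have hker : fixS B = LinearMap.ker (Matrix.toLin' ((B : Matrix α α F) - 1)) := by
    ext v
    rw [mem_fixS, LinearMap.mem_ker, Matrix.toLin'_apply, sub_mulVec, one_mulVec, sub_eq_zero]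
  rw [hker] at h4
  obtain ⟨w', ψ', hwψ⟩ := exists_vecMulVec_of_finrank_ker h4
  have hB1 : (B : Matrix α α F) = 1 + vecMulVec w' ψ' := by rw [← hwψ]; abel
  -- square zero
  have hsq : ((g * rt w ψ h * g⁻¹ : GL (α × α) F) : Matrix (α × α) (α × α) F) - 1 =
      (g : Matrix (α × α) (α × α) F) * (1 ⊗ₖ vecMulVec w ψ) *
        ((g⁻¹ : GL (α × α) F) : Matrix (α × α) (α × α) F) := by
    rw [Units.val_mul, Units.val_mul, coe_rt, mul_add, add_mul, mul_one, ← Units.val_mul,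
      mul_inv_cancel, Units.val_one]
    abel
  have hsq2 : (((g * rt w ψ h * g⁻¹ : GL (α × α) F) : Matrix (α × α) (α × α) F) - 1) *
      (((g * rt w ψ h * g⁻¹ : GL (α × α) F) : Matrix (α × α) (α × α) F) - 1) = 0 := by
    rw [hsq]
    have h6 : ((g⁻¹ : GL (α × α) F) : Matrix (α × α) (α × α) F) *
        (g : Matrix (α × α) (α × α) F) = 1 := by
      rw [← Units.val_mul, inv_mul_cancel, Units.val_one]
    calc _ = (g : Matrix (α × α) (α × α) F) * ((1 ⊗ₖ vecMulVec w ψ) *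
          (((g⁻¹ : GL (α × α) F) : Matrix (α × α) (α × α) F) *
            (g : Matrix (α × α) (α × α) F)) *
          (1 ⊗ₖ vecMulVec w ψ)) * ((g⁻¹ : GL (α × α) F) : Matrix (α × α) (α × α) F) := by
            simp only [mul_assoc]
      _ = 0 := by
            rw [h6, mul_one, ← mul_kronecker_mul, vecMulVec_mul_vecMulVec, h]
            simp
  rw [hg, coe_kr, Units.val_one, hB1, kronecker_add, one_kronecker_one, add_sub_cancel_left,
    ← mul_kronecker_mul, vecMulVec_mul_vecMulVec, one_mul] at hsq2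
  have hne : g * rt w ψ h * g⁻¹ ≠ 1 := by
    intro h7
    have h8 : (rt w ψ h : GL (α × α) F) = 1 := by
      have : rt w ψ h = g⁻¹ * (g * rt w ψ h * g⁻¹) * g := by group
      rw [this, h7]; group
    have h9 := h2
    rw [h8] at h9
    have h10 : fixS (1 : GL (α × α) F) = ⊤ := by
      rw [eq_top_iff]; intro v _
      rw [mem_fixS, Units.val_one, one_mulVec]
    rw [h10, finrank_top, Module.finrank_fintype_fun_eq_card, Fintype.card_prod] at h9
    omega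
  have hwψne : vecMulVec w' ψ' ≠ 0 := by
    intro h7
    apply hne
    rw [hg]
    apply Units.ext
    rw [coe_kr, hB1, h7, add_zero, Units.val_one, one_kronecker_one, Units.val_one]
  have hw' : w' ≠ 0 := by
    rintro rfl; exact hwψne (by simp)
  have hψ' : ψ' ≠ 0 := by
    rintro rfl; exact hwψne (by simp)
  have h' : ψ' ⬝ᵥ w' = 0 := by
    by_contra hcon
    obtain ⟨i⟩ := ‹Nonempty α›
    apply hwψne
    ext j k
    have h8 := congrFun (congrFun hsq2 (i, j)) (i, k)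
    rw [kroneckerMap_apply, one_apply_eq, one_mul] at h8
    have h8' : w' j * ((ψ' ⬝ᵥ w') * ψ' k) = 0 := h8
    change w' j * ψ' k = 0
    rcases mul_eq_zero.1 h8' with h9 | h9
    · rw [h9, zero_mul]
    · rcases mul_eq_zero.1 h9 with h10 | h10
      · exact absurd h10 hcon
      · rw [h10, mul_zero]
  refine ⟨w', ψ', h', hw', hψ', Or.inl ?_⟩
  rw [hg]
  apply Units.ext
  rw [coe_kr, coe_rt, hB1, Units.val_one, kronecker_add, one_kronecker_one]

/-- A conjugate of a root element of the form `A ⊗ 1`. -/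
theorem isRoot_of_kr_one [Nonempty α] {w ψ : α → F} (h : ψ ⬝ᵥ w = 0) (hw : w ≠ 0) (hψ : ψ ≠ 0)
    {g : GL (α × α) F} {A : GL α F} (hg : g * rt w ψ h * g⁻¹ = kr (A, (1 : GL α F))) :
    IsRoot (g * rt w ψ h * g⁻¹) := by
  have h1 : (sw * g) * rt w ψ h * (sw * g)⁻¹ = kr ((1 : GL α F), A) := by
    rw [_root_.mul_inv_rev, sw_inv, ← sw_kr_sw, ← hg]
    simp only [mul_assoc]
  obtain ⟨w', ψ', h', hw', hψ', h2⟩ := isRoot_of_one_kr h hw hψ h1
  refine ⟨w', ψ', h', hw', hψ', ?_⟩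
  have e : g * rt w ψ h * g⁻¹ = sw * ((sw * g) * rt w ψ h * (sw * g)⁻¹) * sw := by
    rw [_root_.mul_inv_rev, sw_inv]
    calc g * rt w ψ h * g⁻¹ = (sw * sw) * g * rt w ψ h * g⁻¹ * (sw * sw) := by
          rw [sw_mul_self, one_mul, mul_one]
      _ = _ := by simp only [mul_assoc]
  rcases h2 with h2 | h2
  · right
    rw [e, h2, sw_rt_sw]
  · left
    rw [e, h2, sw_lt_sw]

/-- A scalar factor can be absorbed. -/
theorem kr_scalar {A B : GL α F} {c : F} (hc0 : c ≠ 0)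
    (hc : (A : Matrix α α F) = c • (1 : Matrix α α F)) :
    kr (A, B) = kr ((1 : GL α F), (Units.mk0 c hc0 • B : GL α F)) := by
  apply Units.ext
  have hB' : ((Units.mk0 c hc0 • B : GL α F) : Matrix α α F) = c • (B : Matrix α α F) := rfl
  rw [coe_kr, coe_kr, hB', hc, Units.val_one, smul_kronecker, kronecker_smul]

theorem scalar_ne_zero [Nonempty α] {A : GL α F} {c : F}
    (hc : (A : Matrix α α F) = c • (1 : Matrix α α F)) : c ≠ 0 := by
  rintro rfl
  obtain ⟨i⟩ := ‹Nonempty α›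
  have h3 : ((A : Matrix α α F) * ((A⁻¹ : GL α F) : Matrix α α F)) i i = 1 := by
    rw [← Units.val_mul, mul_inv_cancel]; simp
  rw [hc] at h3
  simp at h3

theorem isRoot_of_scalar_left [Nonempty α] {w ψ : α → F} (h : ψ ⬝ᵥ w = 0) (hw : w ≠ 0)
    (hψ : ψ ≠ 0) {g : GL (α × α) F} {A B : GL α F} (hg : g * rt w ψ h * g⁻¹ = kr (A, B)) {c : F}
    (hc : (A : Matrix α α F) = c • (1 : Matrix α α F)) : IsRoot (g * rt w ψ h * g⁻¹) := by
  rw [kr_scalar (scalar_ne_zero hc) hc] at hg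
  exact isRoot_of_one_kr h hw hψ hg

theorem isRoot_of_scalar_right [Nonempty α] {w ψ : α → F} (h : ψ ⬝ᵥ w = 0) (hw : w ≠ 0)
    (hψ : ψ ≠ 0) {g : GL (α × α) F} {A B : GL α F} (hg : g * rt w ψ h * g⁻¹ = kr (A, B)) {c : F}
    (hc : (B : Matrix α α F) = c • (1 : Matrix α α F)) : IsRoot (g * rt w ψ h * g⁻¹) := by
  have e : kr (A, B) = kr ((Units.mk0 c (scalar_ne_zero hc) • A : GL α F), (1 : GL α F)) := by
    rw [← sw_kr_sw, kr_scalar (scalar_ne_zero hc) hc, sw_kr_sw]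
  rw [e] at hg
  exact isRoot_of_kr_one h hw hψ hg

end Cfsg.Agent.H886.TW
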